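import Mathlib

/-!
# S5731 (proportion of derangements at least `(√n + 1) / (2 n)`): definitions

Affine part: `V` is a finite vector space over `ZMod p`, `n = |V|`, `H ≤ GL(V)`, `G = V : H`.

* `fx h` : the number of vectors fixed by `h`;  `dsum H = ∑_{h ∈ H} (1 - 1 / fx h)` (so `|V| dsum H` is the number of
  derangements of `V : H` on `V`);
* `Good H` : `(√n + 1) / (2 n) * |H| ≤ dsum H`;
* `Semi H` : `H` acts semiregularly on the nonzero vectors;
* `Inv J W`, `Irr J`, `Smp J W` : invariant subspaces, irreducibility, simple `J`-submodules `W` of `V`;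
* `Hm J W` : the `J`-homomorphisms `W → V`;
* `Homo J` : `V` is a sum of copies of each simple `J`-submodule (`V|J` is homogeneous);
* `Wid J w` : `|Hm J W| ^ w = |V|` for all simple `W`; if `Homo J`, `F = End_J W`, `V ≅ W ^ s`, then `Hm J W = F ^ s`,
  `w = dim_F W`;
* `Blk H k W` : `V` is the direct sum of the subspaces `W i`, which are permuted transitively by `H`;
* `Prm H` : all normal subgroups of `H` are homogeneous;
* `Big h` : `h ≠ 1` fixes more than `√n` vectors;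
* `Comps H k K` : the `H`-orbit `K 0, …, K (k - 1)` of a component;
* `E C d = 2 ^ (C (log₂ d + 1) ^ 2)`.
-/

set_option autoImplicit false

namespace Cfsg.Agent.H457.Der

universe u v

/-- `n ∈ N`, `g ∈ G` give `n ^ g ∈ N` -/
def Nor {Γ : Type*} [Group Γ] (G N : Subgroup Γ) : Prop := ∀ g ∈ G, ∀ n ∈ N, g * n * g⁻¹ ∈ N

/-- commutative -/
def Com {Γ : Type*} [Group Γ] (N : Subgroup Γ) : Prop := ∀ a ∈ N, ∀ b ∈ N, a * b = b * a

/-- the number of elements without fixed points -/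
noncomputable def ders (G Ω : Type*) [Group G] [MulAction G Ω] : ℕ := Nat.card {g : G // ∀ ω : Ω, g • ω ≠ ω}

/-- Frobenius permutation group -/
def Frob (G Ω : Type*) [Group G] [MulAction G Ω] : Prop :=
  MulAction.IsPretransitive G Ω ∧ (∃ g : G, g ≠ 1 ∧ ∃ ω : Ω, g • ω = ω) ∧
    ∀ g : G, g ≠ 1 → Nat.card (MulAction.fixedBy Ω g) ≤ 1

/-- the bound of S5731 -/
def Bd (G Ω : Type*) [Group G] [MulAction G Ω] : Prop :=
  (Real.sqrt (Nat.card Ω) + 1) / (2 * (Nat.card Ω : ℝ)) * (Nat.card G : ℝ) ≤ ders G Ω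

/-- quasi-polynomial bound -/
def E (C d : ℕ) : ℕ := 2 ^ (C * (Nat.log 2 d + 1) ^ 2)

section lin

variable {p : ℕ} {V : Type u} [AddCommGroup V] [Module (ZMod p) V]

/-- the number of fixed vectors -/
noncomputable def fx (h : V ≃ₗ[ZMod p] V) : ℕ := Nat.card {v : V // h v = v}

/-- `∑ (1 - 1 / fx h)` -/
noncomputable def dsum (H : Subgroup (V ≃ₗ[ZMod p] V)) : ℝ := ∑ᶠ h : H, (1 - 1 / (fx (h : V ≃ₗ[ZMod p] V) : ℝ))

/-- the bound for the affine group `V : H` -/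
def Good (H : Subgroup (V ≃ₗ[ZMod p] V)) : Prop :=
  (Real.sqrt (Nat.card V) + 1) / (2 * (Nat.card V : ℝ)) * (Nat.card H : ℝ) ≤ dsum H

/-- semiregular on the nonzero vectors -/
def Semi (H : Subgroup (V ≃ₗ[ZMod p] V)) : Prop := ∀ h ∈ H, h ≠ 1 → ∀ v : V, h v = v → v = 0

/-- invariant subspace -/
def Inv (J : Subgroup (V ≃ₗ[ZMod p] V)) (W : Submodule (ZMod p) V) : Prop := ∀ g ∈ J, ∀ w ∈ W, g w ∈ W

/-- irreducible -/
def Irr (J : Subgroup (V ≃ₗ[ZMod p] V)) : Prop := ∀ W : Submodule (ZMod p) V, Inv J W → W = ⊥ ∨ W = ⊤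

/-- simple submodule -/
structure Smp (J : Subgroup (V ≃ₗ[ZMod p] V)) (W : Submodule (ZMod p) V) : Prop where
  inv : Inv J W
  ne : W ≠ ⊥
  min : ∀ W' : Submodule (ZMod p) V, W' ≤ W → Inv J W' → W' = ⊥ ∨ W' = W

/-- the `J`-homomorphisms `W → V` -/
def Hm (J : Subgroup (V ≃ₗ[ZMod p] V)) (W : Submodule (ZMod p) V) : Submodule (ZMod p) (W →ₗ[ZMod p] V) where
  carrier := {φ | ∀ g ∈ J, ∀ w w' : W, (w' : V) = g (w : V) → φ w' = g (φ w)}
  add_mem' := by
    intro a b ha hb g hg w w' h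
    rw [LinearMap.add_apply, LinearMap.add_apply, ha g hg w w' h, hb g hg w w' h, map_add]
  zero_mem' := by
    intro g _ w w' _
    rw [LinearMap.zero_apply, LinearMap.zero_apply, map_zero]
  smul_mem' := by
    intro c a ha g hg w w' h
    rw [LinearMap.smul_apply, LinearMap.smul_apply, ha g hg w w' h, map_smul]

/-- `V` is homogeneous: the homomorphic images of each simple submodule span `V` -/
def Homo (J : Subgroup (V ≃ₗ[ZMod p] V)) : Prop :=
  ∀ W : Submodule (ZMod p) V, Smp J W → Submodule.span (ZMod p) {x : V | ∃ φ ∈ Hm J W, ∃ w : W, x = φ w} = ⊤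

/-- the dimension of the simple submodules over their endomorphism field is `w` -/
def Wid (J : Subgroup (V ≃ₗ[ZMod p] V)) (w : ℕ) : Prop :=
  ∀ W : Submodule (ZMod p) V, Smp J W → Nat.card (Hm J W) ^ w = Nat.card V

/-- blocks of imprimitivity -/
structure Blk (H : Subgroup (V ≃ₗ[ZMod p] V)) (k : ℕ) (W : Fin k → Submodule (ZMod p) V) : Prop where
  perm : ∀ h ∈ H, ∀ i, ∃ j, (W i).map (h : V →ₗ[ZMod p] V) = W j
  trans : ∀ i j, ∃ h ∈ H, (W i).map (h : V →ₗ[ZMod p] V) = W j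
  indep : iSupIndep W
  top : ⨆ i, W i = ⊤

/-- all normal subgroups are homogeneous -/
def Prm (H : Subgroup (V ≃ₗ[ZMod p] V)) : Prop := ∀ N : Subgroup (V ≃ₗ[ZMod p] V), N ≤ H → Nor H N → Homo N

/-- `h` fixes more than `√n` vectors -/
def Big (h : V ≃ₗ[ZMod p] V) : Prop := h ≠ 1 ∧ Nat.card V < fx h ^ 2

/-- the `H`-conjugates of a component -/
structure Comps (H : Subgroup (V ≃ₗ[ZMod p] V)) (k : ℕ) (K : Fin k → Subgroup (V ≃ₗ[ZMod p] V)) : Prop where
  pos : 0 < k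
  le : ∀ i, K i ≤ H
  perf : ∀ i, commutator (K i) = ⊤
  simple : ∀ i, IsSimpleGroup (K i ⧸ Subgroup.center (K i))
  inj : Function.Injective K
  comm : ∀ i j, i ≠ j → ∀ x ∈ K i, ∀ y ∈ K j, x * y = y * x
  conj : ∀ h ∈ H, ∀ i, ∃ j, (K i).map (MulAut.conj h).toMonoidHom = K j
  iso : ∀ i j, Nonempty (K i ≃* K j)
  homo : ∀ i, Homo (K i)
  homo2 : ∀ i j, Homo (K i ⊔ K j)
  wid : k = 1 → ∀ i w, Wid (K i) w → 3 ≤ w

end lin

end Cfsg.Agent.H457.Der
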